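import Cfsg.Agent.Lib.Baer.Basic

/-!
Two lemmas for the Camina–Herzog criterion: an involution outside the 2-core inverts a nontrivial
element of odd order, and an automorphism of odd order of an abelian 2-group inverted by an
involution `t` is trivial when every `a * t a` is the square of a `t`-fixed element.
-/

set_option autoImplicit false

namespace CfsgLib.CaminaHerzog

universe u

section operators

variable {A : Type u} [CommGroup A] (t c : MulAut A)

theorem fixed_pow {x : A} (h : c x = x) : ∀ k : ℕ, (c ^ k) x = x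
  | 0 => rfl
  | k + 1 => by rw [pow_succ, MulAut.mul_apply, h, fixed_pow h k]

theorem eq_of_sq_fixed (hm : Odd (orderOf c)) {x : A} (h : c (c x) = x) : c x = x := by
  obtain ⟨k, hk⟩ := hm
  have h1 : ∀ j : ℕ, (c ^ (2 * j)) x = x := by
    intro j
    rw [pow_mul]
    exact fixed_pow (c ^ 2) (by rw [pow_two, MulAut.mul_apply, h]) j
  have h2 : (c ^ (2 * k + 1)) x = x := by rw [← hk, pow_orderOf_eq_one]; rfl
  rwa [pow_succ', MulAut.mul_apply, h1] at h2

theorem eq_of_fixed_ratio (hm : Odd (orderOf c)) {x d : A} (hd : d * d = 1) (hcx : c x = d * x)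
    (hcd : c d = d) : c x = x := by
  apply eq_of_sq_fixed c hm
  rw [hcx, map_mul, hcd, hcx, ← mul_assoc, hd, one_mul]

/-- `a ↦ c a * c⁻¹ a`. -/
def delta : A →* A where
  toFun a := c a * c.symm a
  map_one' := by simp
  map_mul' a b := by simp only [map_mul]; exact mul_mul_mul_comm _ _ _ _

theorem delta_apply (a : A) : delta c a = c a * c.symm a := rfl

theorem fixed_of_delta (hm : Odd (orderOf c)) :
    ∀ (k : ℕ) (a : A), (delta c)^[k] a = 1 → c a = a := by
  intro k
  induction k with
  | zero =>
    intro a h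
    simp only [Function.iterate_zero, id_eq] at h
    rw [h, map_one]
  | succ k ih =>
    intro a h
    rw [Function.iterate_succ_apply] at h
    have h4 : c (c (c a * c.symm a)) = c a * c.symm a := by
      have := ih _ h
      rw [delta_apply] at this
      rw [this, this]
    rw [map_mul, MulEquiv.apply_symm_apply, map_mul] at h4
    have h5 : c (c (c a)) = c.symm a := by
      rw [mul_comm (c a)] at h4
      exact mul_right_cancel h4
    have h6 : c (c (c (c a))) = a := by rw [h5, MulEquiv.apply_symm_apply]
    have h7 : c (c a) = a := by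
      apply eq_of_sq_fixed (c * c)
      · have : orderOf (c * c) = orderOf c := by
          rw [← pow_two]
          exact Nat.Coprime.orderOf_pow (hm.coprime_two_right)
        rwa [this]
      · simpa only [MulAut.mul_apply] using h6
    exact eq_of_sq_fixed c hm h7

/-- An automorphism of odd order inverted by `t` is trivial if every norm `a * t a` is the square
of a `t`-fixed element. -/
theorem eq_one_of_norm_sq [Finite A] (hA : IsPGroup 2 A) (hm : Odd (orderOf c)) (ht : ∀ a, t (t a) = a)
    (hinv : ∀ a, t (c a) = c.symm (t a)) (hN : ∀ a : A, ∃ u, t u = u ∧ a * t a = u * u) :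
    c = 1 := by
  -- `delta` maps fixed points of `t` into squares of fixed points
  have hd : ∀ u, t u = u → ∃ v, t v = v ∧ delta c u = v * v := by
    intro u hu
    obtain ⟨v, hv, e⟩ := hN (c u)
    exact ⟨v, hv, by rw [← e, hinv, hu, delta_apply]⟩
  have hfix : ∀ u, t u = u → c u = u := by
    intro u hu
    have h1 : ∀ j : ℕ, ∃ v, t v = v ∧ (delta c)^[j] u = v ^ (2 ^ j) := by
      intro j
      induction j with
      | zero => exact ⟨u, hu, by simp⟩
      | succ j ih =>
        obtain ⟨v, hv, e⟩ := ih
        obtain ⟨w, hw, ew⟩ := hd v hv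
        refine ⟨w, hw, ?_⟩
        rw [Function.iterate_succ_apply', e, map_pow, ew, ← pow_two, ← pow_mul, ← pow_succ']
    obtain ⟨K, hK⟩ := IsPGroup.iff_card.1 hA
    obtain ⟨v, -, e⟩ := h1 K
    refine fixed_of_delta c hm K u ?_
    rw [e, ← hK, pow_card_eq_one']
  have hnorm : ∀ a, c (a * t a) = a * t a := fun a => hfix _ (by rw [map_mul, ht, mul_comm])
  -- elements of order two
  have h2 : ∀ a : A, a * a = 1 → c a = a := by
    intro a ha
    have hinv2 : ∀ {x : A}, x * x = 1 → x⁻¹ = x := fun h => inv_eq_of_mul_eq_one_right h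
    set d := c a * a with hdd
    have hd2 : d * d = 1 := by
      rw [hdd, mul_mul_mul_comm, ← map_mul, ha, map_one, one_mul]
    have hca : c a = d * a := by rw [hdd, mul_assoc, ha, mul_one]
    have e1 : c (t a) * t a = d := by
      have := hnorm a
      rw [map_mul] at this
      have hta : t a * t a = 1 := by rw [← map_mul, ha, map_one]
      calc c (t a) * t a = (c a * c a) * (c (t a) * t a) := by rw [← map_mul, ha, map_one, one_mul]
        _ = (c a * c (t a)) * (c a * t a) := mul_mul_mul_comm _ _ _ _
        _ = (a * t a) * (c a * t a) := by rw [this]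
        _ = (a * c a) * (t a * t a) := mul_mul_mul_comm _ _ _ _
        _ = d := by rw [hta, mul_one, hdd, mul_comm]
    have e2 : t d = c.symm d := by
      have h3 : c (t a) = t (c.symm a) := by
        have := hinv (c.symm a)
        rw [MulEquiv.apply_symm_apply] at this
        rw [this, MulEquiv.apply_symm_apply]
      have h4 : t (c.symm a * a) = d := by rw [map_mul, ← h3, e1]
      have h5 : c.symm d = c.symm a * a := by
        rw [hdd, map_mul, MulEquiv.symm_apply_apply, mul_comm]
      rw [h5, ← h4, ht]
    have e3 : c d = c.symm d := by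
      have h5 := hnorm d
      rw [e2, map_mul, MulEquiv.apply_symm_apply, mul_comm (c d) d] at h5
      exact mul_left_cancel h5
    have e4 : c (c d) = d := by rw [e3, MulEquiv.apply_symm_apply]
    exact eq_of_fixed_ratio c hm hd2 hca (eq_of_sq_fixed c hm e4)
  obtain ⟨K, hK⟩ := IsPGroup.iff_card.1 hA
  have hall : ∀ (k : ℕ) (a : A), a ^ (2 ^ k) = 1 → c a = a := by
    intro k
    induction k with
    | zero =>
      intro a ha
      simp only [pow_zero, pow_one] at ha
      rw [ha, map_one]
    | succ k ih =>
      intro a ha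
      rw [pow_succ', pow_mul, pow_two] at ha
      have hsq : c (a * a) = a * a := ih _ ha
      have hd2 : (c a * a⁻¹) * (c a * a⁻¹) = 1 := by
        rw [mul_mul_mul_comm, ← map_mul, hsq, mul_mul_mul_comm]
        simp
      exact eq_of_fixed_ratio c hm hd2 (inv_mul_cancel_right (c a) a).symm (h2 _ hd2)
  refine MulEquiv.ext fun a => hall K a ?_
  rw [← hK, pow_card_eq_one']

end operators

section dihedral

variable {G : Type u} [Group G] [Finite G]

/-- An element `t` of order two lies in a normal 2-subgroup or inverts a nontrivial element of odd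
order. -/
theorem exists_inverted_or_mem_two_core {t : G} (ht : orderOf t = 2) :
    (∃ N : Subgroup G, N.Normal ∧ IsPGroup 2 N ∧ t ∈ N) ∨
      ∃ c : G, c ≠ 1 ∧ Odd (orderOf c) ∧ t * c * t⁻¹ = c⁻¹ := by
  classical
  have ht1 : t * t = 1 := by
    rw [← pow_two, ← ht]
    exact pow_orderOf_eq_one t
  have hti : t⁻¹ = t := inv_eq_of_mul_eq_one_right ht1
  by_cases hall : ∀ g : G, IsPGroup 2 (Subgroup.zpowers (t * (g * t * g⁻¹)))
  · left
    have hX : IsPGroup 2 (Subgroup.zpowers t) :=
      IsPGroup.of_card (n := 1) (by rw [Nat.card_zpowers, ht, pow_one])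
    obtain ⟨N, hN, hN2, hle⟩ := CfsgLib.Baer.baer_suzuki (p := 2) (Subgroup.zpowers t) hX fun g => by
      set s := g * t * g⁻¹ with hs
      have hmap : (Subgroup.zpowers t).map (MulAut.conj g).toMonoidHom = Subgroup.zpowers s := by
        rw [MonoidHom.map_zpowers]
        rfl
      rw [hmap]
      set R := Subgroup.zpowers (t * s) with hR
      have hs1 : s * s = 1 := by
        rw [hs, show g * t * g⁻¹ * (g * t * g⁻¹) = g * (t * t) * g⁻¹ by group, ht1]
        group
      have hsi : s⁻¹ = s := inv_eq_of_mul_eq_one_right hs1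
      have hinv : t * (t * s) * t⁻¹ = (t * s)⁻¹ := by
        rw [hti, mul_inv_rev, hsi, hti, ← mul_assoc t t s, ht1, one_mul]
      have hn : Subgroup.zpowers t ≤ Subgroup.normalizer (R : Set G) := by
        rw [Subgroup.zpowers_le]
        refine Subgroup.mem_normalizer_fintype fun x hx => ?_
        obtain ⟨k, rfl⟩ := Subgroup.mem_zpowers_iff.1 hx
        rw [← conj_zpow, hinv, inv_zpow]
        exact R.inv_mem (R.zpow_mem (Subgroup.mem_zpowers _) k)
      have h2 : IsPGroup 2 ↥(Subgroup.zpowers t ⊔ R) := hX.to_sup_of_normal_right' (hall g) hn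
      refine h2.to_le (sup_le le_sup_left ?_)
      rw [Subgroup.zpowers_le]
      have hm := Subgroup.mul_mem _
        (Subgroup.mem_sup_left (T := R) (Subgroup.mem_zpowers t))
        (Subgroup.mem_sup_right (S := Subgroup.zpowers t) (Subgroup.mem_zpowers (t * s)))
      rwa [← mul_assoc, ht1, one_mul] at hm
    exact ⟨N, hN, hN2, hle (Subgroup.mem_zpowers t)⟩
  · right
    push Not at hall
    obtain ⟨g, hg⟩ := hall
    set s := g * t * g⁻¹ with hs
    set x := t * s with hx
    have hs1 : s * s = 1 := by
      rw [hs, show g * t * g⁻¹ * (g * t * g⁻¹) = g * (t * t) * g⁻¹ by group, ht1]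
      group
    have hsi : s⁻¹ = s := inv_eq_of_mul_eq_one_right hs1
    have hinv : t * x * t⁻¹ = x⁻¹ := by
      rw [hx, hti, mul_inv_rev, hsi, hti, ← mul_assoc t t s, ht1, one_mul]
    set n := orderOf x with hn
    have hn0 : n ≠ 0 := (orderOf_pos x).ne'
    obtain ⟨e, m, hmo, hem⟩ := Nat.exists_eq_pow_mul_and_not_dvd hn0 2 (by norm_num)
    refine ⟨x ^ 2 ^ e, fun h => hg ?_, ?_, ?_⟩
    · intro y
      obtain ⟨k, hk⟩ := Subgroup.mem_zpowers_iff.1 y.2
      refine ⟨e, Subtype.ext ?_⟩
      rw [SubgroupClass.coe_pow, ← hk, ← zpow_natCast, ← zpow_mul, mul_comm, zpow_mul,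
        zpow_natCast, h, one_zpow]
      rfl
    · rw [orderOf_pow, ← hn, hem, Nat.gcd_eq_right (Dvd.intro _ rfl),
        Nat.mul_div_cancel_left _ (by positivity)]
      exact Nat.odd_iff.2 (Nat.two_dvd_ne_zero.1 hmo)
    · rw [← conj_pow, hinv, inv_pow]

end dihedral

end CfsgLib.CaminaHerzog
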