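import Cfsg.Agent.Lib.CaminaHerzog.Operators
import Cfsg.Agent.Lib.Fusion.Alperin
import Cfsg.Agent.Lib.Fusion.Group

/-!
A 2-group carrying a saturated fusion system in which every element is conjugate to a central
element is abelian. The proof uses Alperin's theorem, Baer–Suzuki and the observation that a
central element which is conjugate to a square is a square of a central element.
-/

set_option autoImplicit false

namespace CfsgLib.CaminaHerzog

open Cfsg Cfsg.FusionSystem CfsgLib.Fusion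

variable {Ω : Type*} [Group Ω] {S : Subgroup Ω} {F : FusionSystem S}

theorem mem_centralizerIn_zpowers {x g : Ω} :
    g ∈ centralizerIn S (Subgroup.zpowers x) ↔ g ∈ S ∧ x * g = g * x := by
  constructor
  · intro h
    exact ⟨h.1, Subgroup.mem_centralizer_iff.1 h.2 x (Subgroup.mem_zpowers x)⟩
  · rintro ⟨hg, h⟩
    refine ⟨hg, Subgroup.mem_centralizer_iff.2 ?_⟩
    rintro y ⟨k, rfl⟩
    exact (Commute.zpow_left h k).eq

theorem self_mem_centralizerIn {x : Ω} (hx : x ∈ S) :
    x ∈ centralizerIn S (Subgroup.zpowers x) :=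
  mem_centralizerIn_zpowers.2 ⟨hx, rfl⟩

theorem mem_central {z : Ω} :
    z ∈ centralizerIn S S ↔ z ∈ S ∧ ∀ g ∈ S, g * z = z * g :=
  and_congr_right fun _ => Subgroup.mem_centralizer_iff

/-- Every element of `S` is conjugate in the system to a central element. -/
def CentralConj (F : FusionSystem S) : Prop :=
  ∀ x ∈ S, ∃ z ∈ centralizerIn S S, F.IsConjElt x z

variable [Finite S]

omit [Finite S] in
theorem le_centralizerIn_of_central {z : Ω} (hz : z ∈ centralizerIn S S) :
    S ≤ centralizerIn S (Subgroup.zpowers z) := fun g hg =>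
  mem_centralizerIn_zpowers.2 ⟨hg, ((mem_central.1 hz).2 g hg).symm⟩

theorem isFullyCentralized_central {z : Ω} (hz : z ∈ centralizerIn S S) :
    F.IsFullyCentralized (Subgroup.zpowers z) := by
  refine ⟨Subgroup.zpowers_le.2 hz.1, fun Q _ => ?_⟩
  have := finite_of_le (S := S) (P := centralizerIn S (Subgroup.zpowers z)) inf_le_left
  exact Subgroup.card_le_of_le (inf_le_left.trans (le_centralizerIn_of_central hz))

theorem exists_map_central (hS : IsPGroup 2 S) (hF : F.IsSaturated 2) (h : CentralConj F) {x : Ω}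
    (hx : x ∈ S) :
    ∃ f, IsMap F (centralizerIn S (Subgroup.zpowers x)) f ∧ f x ∈ centralizerIn S S := by
  obtain ⟨z, hz, φ, hφ, hφx⟩ := h x hx
  have hr : φ.range = Subgroup.zpowers z := by
    rw [MonoidHom.range_eq_map, show (⊤ : Subgroup (Subgroup.zpowers x)) =
      Subgroup.zpowers ⟨x, Subgroup.mem_zpowers x⟩ from ?_, MonoidHom.map_zpowers, hφx]
    refine (eq_top_iff.2 ?_).symm
    rintro ⟨y, k, rfl⟩ -
    exact ⟨k, Subtype.ext (by simp)⟩
  have hiso : IsIso F (Subgroup.zpowers x) (Subgroup.zpowers z) (homFun φ) := hr ▸ isIso_homFun hφ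
  obtain ⟨f, hf, hv⟩ := (isReceptive_iff.1
    (isReceptive_of_isFullyCentralized hS hF (isFullyCentralized_central hz))).2 _ _ hiso
  refine ⟨f, hf.mono (centralizerIn_le_nPhi _ _), ?_⟩
  rw [hv x (Subgroup.mem_zpowers x), homFun_apply φ (Subgroup.mem_zpowers x), hφx]
  exact hz

/-- A map between central elements extends to an automorphism of `S` stabilising the centre. -/
theorem exists_auto (hS : IsPGroup 2 S) (hF : F.IsSaturated 2) {z : Ω} {f : Ω → Ω}
    (hf : IsMap F (Subgroup.zpowers z) f) (hz : z ∈ centralizerIn S S)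
    (hw : f z ∈ centralizerIn S S) :
    ∃ g g', IsMap F S g ∧ IsMap F S g' ∧ g z = f z ∧ (∀ y ∈ S, g' (g y) = y) ∧
      ∀ u ∈ centralizerIn S S, g' u ∈ centralizerIn S S := by
  obtain ⟨Q, hQ⟩ := hf.exists_iso
  have hQz : Q = Subgroup.zpowers (f z) := by
    ext y
    constructor
    · intro hy
      obtain ⟨x, hx, rfl⟩ := hQ.surj hy
      obtain ⟨k, rfl⟩ := hx
      exact ⟨k, (hf.map_zpow (Subgroup.mem_zpowers z) k).symm⟩
    · rintro ⟨k, rfl⟩
      show f z ^ k ∈ Q
      exact Q.zpow_mem (hQ.mem (Subgroup.mem_zpowers z)) k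
  obtain ⟨g, hg, hv⟩ := (isReceptive_iff.1
    (isReceptive_of_isFullyCentralized hS hF (isFullyCentralized_central hw))).2 _ _ (hQz ▸ hQ)
  have hgS : IsMap F S g :=
    hg.mono ((le_centralizerIn_of_central hz).trans (centralizerIn_le_nPhi _ _))
  have hgi : IsIso F S S g := hgS.isIso_of_card_le (fun x hx => hgS.mem hx) le_rfl
  obtain ⟨g', hg', h1, h2⟩ := hgi.exists_symm
  refine ⟨g, g', hgS, hg'.isMap, hv z (Subgroup.mem_zpowers z), h1, fun u hu => ?_⟩
  refine mem_central.2 ⟨hg'.isMap.mem hu.1, fun y hy => ?_⟩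
  have hc := (mem_central.1 hu).2 (g y) (hgi.mem hy)
  have := congrArg g' hc
  rwa [hg'.isMap.map_mul (hgi.mem hy) hu.1, hg'.isMap.map_mul hu.1 (hgi.mem hy), h1 y hy] at this

/-- A central element conjugate to a square is the square of a central element. -/
theorem exists_central_sqrt (hS : IsPGroup 2 S) (hF : F.IsSaturated 2) (h : CentralConj F)
    {n s : Ω} {f : Ω → Ω} (hn : n ∈ centralizerIn S S) (hf : IsMap F (Subgroup.zpowers n) f)
    (hs : s ∈ S) (hfn : f n = s * s) : ∃ u ∈ centralizerIn S S, n = u * u := by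
  obtain ⟨f₁, hf₁, hw⟩ := exists_map_central hS hF h hs
  set C := centralizerIn S (Subgroup.zpowers s) with hC
  have hsC : s ∈ C := self_mem_centralizerIn hs
  have hssC : ∀ x ∈ Subgroup.zpowers n, f x ∈ C := by
    rintro _ ⟨k, rfl⟩
    show f (n ^ k) ∈ C
    rw [hf.map_zpow (Subgroup.mem_zpowers n), hfn]
    exact C.zpow_mem (C.mul_mem hsC hsC) k
  have hcomp := hf.comp hf₁ hssC
  have hval : (f₁ ∘ f) n = f₁ s * f₁ s := by rw [Function.comp_apply, hfn, hf₁.map_mul hsC hsC]
  obtain ⟨g, g', hg, hg', hgn, hgg, hgZ⟩ := exists_auto hS hF hcomp hn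
    (by rw [hval]; exact (centralizerIn S S).mul_mem hw hw)
  refine ⟨g' (f₁ s), hgZ _ hw, ?_⟩
  rw [← hgg n hn.1, hgn, hval, hg'.map_mul hw.1 hw.1]

/-- The key consequence. -/
theorem exists_central_sqrt_norm (hS : IsPGroup 2 S) (hF : F.IsSaturated 2) (h : CentralConj F)
    {x a : Ω} (hx : x ∈ S) (ha : a ∈ S) (hc : x * x * a = a * (x * x))
    (hn : (x * x)⁻¹ * (x * a * (x * a)) ∈ centralizerIn S S) :
    ∃ u ∈ centralizerIn S S, (x * x)⁻¹ * (x * a * (x * a)) = u * u := by
  set e := x * x with he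
  obtain ⟨f, hf, hfe⟩ := exists_map_central hS hF h (S.mul_mem hx hx)
  set C := centralizerIn S (Subgroup.zpowers (x * x)) with hC
  have hxC : x ∈ C := mem_centralizerIn_zpowers.2 ⟨hx, by group⟩
  have haC : a ∈ C := mem_centralizerIn_zpowers.2 ⟨ha, hc⟩
  have heC : e ∈ C := C.mul_mem hxC hxC
  have hnC : e⁻¹ * (x * a * (x * a)) ∈ C :=
    C.mul_mem (C.inv_mem heC) (C.mul_mem (C.mul_mem hxC haC) (C.mul_mem hxC haC))
  obtain ⟨u, hu, hue⟩ := exists_central_sqrt hS hF h hfe
    (isMap_id (Subgroup.zpowers_le.2 hfe.1)) (hf.mem hxC)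
    (show id (f e) = f x * f x by rw [id, he, hf.map_mul hxC hxC])
  set y := f x * f a with hy
  have hyS : y ∈ S := S.mul_mem (hf.mem hxC) (hf.mem haC)
  refine exists_central_sqrt hS hF h hn (hf.mono (Subgroup.zpowers_le.2 hnC))
    (S.mul_mem (S.inv_mem hu.1) hyS) ?_
  rw [hf.map_mul (C.inv_mem heC) (C.mul_mem (C.mul_mem hxC haC) (C.mul_mem hxC haC)),
    hf.map_inv heC, hue, hf.map_mul (C.mul_mem hxC haC) (C.mul_mem hxC haC),
    hf.map_mul hxC haC, ← hy]
  have hcu : Commute y u := (mem_central.1 hu).2 y hyS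
  calc (u * u)⁻¹ * (y * y) = u⁻¹ * (u⁻¹ * y) * y := by group
    _ = u⁻¹ * (y * u⁻¹) * y := by rw [(hcu.inv_right).eq]
    _ = u⁻¹ * y * (u⁻¹ * y) := by group

/-! ### The large subgroup with an automorphism moving a non-central element to the centre -/

/-- The maps that respect centrality on subgroups of order at least `M`. -/
def centralPreserving (F : FusionSystem S) (M : ℕ) : FusionSystem S where
  Hom P := {φ | φ ∈ F.Hom P ∧ (M ≤ Nat.card P →
    ∀ x : P, φ x ∈ centralizerIn S S ↔ (x : Ω) ∈ centralizerIn S S)}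
  le_of_mem h := F.le_of_mem h.1
  injective_of_mem h := F.injective_of_mem h.1
  conj_mem := by
    intro P g hP hg
    refine ⟨F.conj_mem hP hg, fun _ x => ?_⟩
    show g * (x : Ω) * g⁻¹ ∈ centralizerIn S S ↔ _
    constructor
    · intro h
      have h2 := (mem_central.1 h).2 g hg
      have h3 : g * (x : Ω) * g⁻¹ = x := by
        exact mul_left_cancel (h2.trans (inv_mul_cancel_right _ g))
      rwa [h3] at h
    · intro h
      rwa [(mem_central.1 h).2 g hg, mul_inv_cancel_right]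
  comp_mem := by
    rintro P Q φ ψ ⟨hφ, hφc⟩ ⟨hψ, hψc⟩ hPQ
    refine ⟨F.comp_mem hφ hψ hPQ, fun hM x => ?_⟩
    have : Finite Q := finite_of_le (F.le_of_mem hψ).1
    have hQ : M ≤ Nat.card Q := hM.trans
      (Nat.card_le_card_of_injective (fun y : P => (⟨φ y, hPQ y⟩ : Q))
        fun a b hab => F.injective_of_mem hφ (congrArg Subtype.val hab))
    exact (hψc hQ ⟨φ x, hPQ x⟩).trans (hφc hM x)
  inv_mem := by
    rintro P φ ⟨hφ, hφc⟩
    obtain ⟨ψ, hψ, hv⟩ := F.inv_mem hφ
    refine ⟨ψ, ⟨hψ, fun hM y => ?_⟩, hv⟩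
    obtain ⟨_, x, rfl⟩ := y
    have hM' : M ≤ Nat.card P := by
      rwa [Nat.card_congr (MonoidHom.ofInjective (F.injective_of_mem hφ)).toEquiv]
    rw [hv x]
    exact (hφc hM' x).symm

/-- If `S` is not abelian there is a proper subgroup `P`, with `P` centralising `y`, a map of `F`
moving `y` into the centre, and `C_S(a) = P` for every non-central `a` centralised by `P`. -/
theorem exists_switch (hS : IsPGroup 2 S) (hF : F.IsSaturated 2) (h : CentralConj F)
    (hab : ∃ x ∈ S, x ∉ centralizerIn S S) :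
    ∃ (P : Subgroup Ω) (α : MulAut P) (y : P), F.IsFullyNormalized P ∧ P < S ∧ α ∈ F.autGroup P ∧
      y ∈ Subgroup.center P ∧ (y : Ω) ∉ centralizerIn S S ∧ (α y : Ω) ∈ centralizerIn S S ∧
      centralizerIn S S ≤ P ∧
      ∀ a : P, a ∈ Subgroup.center P → (a : Ω) ∉ centralizerIn S S →
        centralizerIn S (Subgroup.zpowers (a : Ω)) ≤ P := by
  classical
  have hSfin : (S : Set Ω).Finite := Set.toFinite _
  obtain ⟨x₀, ⟨hx₀S, hx₀⟩, hmax⟩ := Set.exists_max_image
    {x : Ω | x ∈ S ∧ x ∉ centralizerIn S S}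
    (fun x => Nat.card (centralizerIn S (Subgroup.zpowers x)))
    (hSfin.subset fun x hx => hx.1) hab
  set M := Nat.card (centralizerIn S (Subgroup.zpowers x₀)) with hM
  obtain ⟨f, hf, hfx⟩ := exists_map_central hS hF h hx₀S
  by_contra hcon
  have hE : ∀ P : Subgroup Ω, (P = S ∨ F.IsEssential 2 P) →
      F.autGroup P ≤ (centralPreserving F M).autGroup P := by
    intro P hP α hα
    have hPS : P ≤ S := by
      rcases hP with rfl | hP
      · exact le_rfl
      · exact hP.2.1.1
    refine Subgroup.subset_closure ⟨mem_hom_of_isMap ((mem_autGroup_iff hPS α).1 hα).isMap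
      fun x => (autFun_coe α x).symm, fun hM' => ?_⟩
    have : Finite P := finite_of_le hPS
    have hkey : ∀ (β : MulAut P), β ∈ F.autGroup P → ∀ y : P, (β y : Ω) ∈ centralizerIn S S →
        (y : Ω) ∈ centralizerIn S S := by
      intro β hβ y hy
      by_contra hyZ
      have hcom : ∀ g : P, g * y = y * g := fun g => β.injective (Subtype.ext (by
        simp only [map_mul, Subgroup.coe_mul]
        exact (mem_central.1 hy).2 _ (hPS (β g).2)))
      have hPle : ∀ a : P, a ∈ Subgroup.center P → (a : Ω) ∉ centralizerIn S S →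
          centralizerIn S (Subgroup.zpowers (a : Ω)) = P := by
        intro a ha haZ
        have := finite_of_le (S := S) (P := centralizerIn S (Subgroup.zpowers (a : Ω))) inf_le_left
        refine (Subgroup.eq_of_le_of_card_ge (fun g hg => mem_centralizerIn_zpowers.2
          ⟨hPS hg, ?_⟩) ((hmax _ ⟨hPS a.2, haZ⟩).trans hM')).symm
        exact congrArg Subtype.val ((Subgroup.mem_center_iff.1 ha ⟨g, hg⟩).symm)
      have hyc : y ∈ Subgroup.center P := Subgroup.mem_center_iff.2 hcom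
      have hne : P ≠ S := by
        intro hPe
        exact hyZ (mem_central.2 ⟨hPS y.2, fun g hg =>
          congrArg Subtype.val (hcom ⟨g, hPe ▸ hg⟩)⟩)
      refine hcon ⟨P, β, y, (hP.resolve_left hne).2.1, lt_of_le_of_ne hPS hne, hβ, hyc, hyZ, hy,
        ?_, fun a ha haZ => (hPle a ha haZ).le⟩
      rw [← hPle y hyc hyZ]
      intro z hz
      exact mem_centralizerIn_zpowers.2 ⟨hz.1, (mem_central.1 hz).2 _ (hPS y.2)⟩
    intro x
    refine ⟨hkey α hα x, fun hx => ?_⟩
    refine hkey α⁻¹ (inv_mem hα) (α x) ?_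
    rwa [MulAut.inv_apply_self]
  obtain ⟨φ, ⟨-, hφc⟩, hφv⟩ := le_of_autGroup_le hS hF hE _ f hf
  have := hφc le_rfl ⟨x₀, self_mem_centralizerIn hx₀S⟩
  rw [hφv] at this
  exact hx₀ (this.1 hfx)

/-- Restriction of automorphisms to the centre. -/
def centerRes (P : Type*) [Group P] : MulAut P →* MulAut (Subgroup.center P) where
  toFun α := Subgroup.centerCongr α
  map_one' := by ext x; rfl
  map_mul' α β := by ext x; rfl

theorem centerRes_apply {P : Type*} [Group P] (α : MulAut P) (a : Subgroup.center P) :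
    ((centerRes P α a : Subgroup.center P) : P) = α (a : P) := rfl

/-- **Camina–Herzog**, for fusion systems. -/
theorem isMulCommutative_of_centralConj (hS : IsPGroup 2 S) (hF : F.IsSaturated 2)
    (h : CentralConj F) : IsMulCommutative S := by
  classical
  by_contra hne
  obtain ⟨P, α, y, hfn, hPS, hα, hyc, hyZ, hαy, hZP, hC⟩ := exists_switch hS hF h (by
    by_contra hcon
    push Not at hcon
    exact hne ⟨⟨fun a b => Subtype.ext ((mem_central.1 (hcon b b.2)).2 a a.2)⟩⟩)
  have hfinP : Finite P := finite_of_le hPS.le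
  have := finite_mulAut P
  set A := Subgroup.center P with hA
  let _ : CommGroup A :=
    { (inferInstance : Group A) with
      mul_comm := fun a b => Subtype.ext (Subgroup.mem_center_iff.1 b.2 (a : P)) }
  let ρ : F.autGroup P →* MulAut A := (centerRes P).comp (F.autGroup P).subtype
  set Γ := ρ.range with hΓ
  obtain ⟨R, hR⟩ := (isFullyAutomized_of_isFullyNormalized hS hF hfn).2
  let R' : Sylow 2 Γ := R.mapSurjective ρ.rangeRestrict_surjective
  have hR' : ∀ r : Γ, r ∈ R' → ∃ g ∈ S, g ∈ Subgroup.normalizer (P : Set Ω) ∧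
      ∀ a : A, (((r : MulAut A) a : P) : Ω) = g * ((a : P) : Ω) * g⁻¹ := by
    intro r hr
    obtain ⟨r₀, hr₀, rfl⟩ := (show r ∈ (R : Subgroup (F.autGroup P)).map ρ.rangeRestrict from hr)
    have hr₁ : r₀ ∈ (autInducedBy S P).subgroupOf (F.autGroup P) := hR ▸ hr₀
    obtain ⟨g, hg, hv⟩ := (mem_autInducedBy_iff S P _).1 (Subgroup.mem_subgroupOf.1 hr₁)
    refine ⟨g, hg, (mem_normalizerIn_of_induces hPS.le hg hv).2, fun a => ?_⟩
    exact hv _
  -- elements moved by no element of the automizer from `S` are central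
  have hfixZ : ∀ (r : Γ), r ∈ R' → r ≠ 1 → ∀ a : A, (r : MulAut A) a = a →
      ((a : P) : Ω) ∈ centralizerIn S S := by
    intro r hr hr1 a ha
    by_contra haZ
    obtain ⟨g, hg, -, hv⟩ := hR' r hr
    have hgP : g ∈ P := by
      refine hC _ a.2 haZ (mem_centralizerIn_zpowers.2 ⟨hg, ?_⟩)
      have := hv a
      rw [ha] at this
      nth_rewrite 1 [this]
      group
    refine hr1 (Subtype.ext (MulEquiv.ext fun b => Subtype.ext (Subtype.ext ?_)))
    rw [hv b]
    show g * ((b : P) : Ω) * g⁻¹ = ((b : P) : Ω)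
    rw [show g * ((b : P) : Ω) = ((b : P) : Ω) * g from
      congrArg Subtype.val (Subgroup.mem_center_iff.1 b.2 ⟨g, hgP⟩), mul_inv_cancel_right]
  have hZfix : ∀ (r : Γ), r ∈ R' → ∀ a : A, ((a : P) : Ω) ∈ centralizerIn S S →
      (r : MulAut A) a = a := by
    intro r hr a ha
    obtain ⟨g, hg, -, hv⟩ := hR' r hr
    apply Subtype.ext
    apply Subtype.ext
    rw [hv, (mem_central.1 ha).2 g hg, mul_inv_cancel_right]
  -- `Γ` has an involution inside `R'`
  have hRne : ∃ r : Γ, r ∈ R' ∧ r ≠ 1 := by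
    obtain ⟨g, hgN, hgP⟩ := SetLike.exists_of_lt (lt_normalizerIn hS hPS.le hPS.ne)
    have hmem : conjAut P hgN.2 ∈ F.autGroup P :=
      autInducedBy_le_autGroup hPS.le (conjAut_mem_autInducedBy hgN.2 hgN.1)
    refine ⟨ρ.rangeRestrict ⟨_, hmem⟩, ?_, fun h1 => hgP ?_⟩
    · show ρ.rangeRestrict ⟨_, hmem⟩ ∈ (R : Subgroup (F.autGroup P)).map ρ.rangeRestrict
      refine Subgroup.mem_map_of_mem _ ?_
      rw [hR]
      exact Subgroup.mem_subgroupOf.2 (conjAut_mem_autInducedBy hgN.2 hgN.1)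
    · refine hC y hyc hyZ (mem_centralizerIn_zpowers.2 ⟨hgN.1, ?_⟩)
      have h2 := congrArg (fun σ : Γ => (((σ : MulAut A) ⟨y, hyc⟩ : P) : Ω)) h1
      have h3 : g * (y : Ω) * g⁻¹ = (y : Ω) := h2
      calc (y : Ω) * g = g * (y : Ω) * g⁻¹ * g := by rw [h3]
        _ = g * (y : Ω) := by group
  obtain ⟨t, htR, ht⟩ : ∃ t : Γ, t ∈ R' ∧ orderOf t = 2 := by
    obtain ⟨r, hr, hr1⟩ := hRne
    obtain ⟨k, hk⟩ := IsPGroup.iff_orderOf.1 R'.isPGroup' ⟨r, hr⟩
    rw [← Subgroup.orderOf_coe] at hk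
    obtain _ | k := k
    · exact absurd (orderOf_eq_one_iff.1 (by rw [hk, pow_zero])) hr1
    · refine ⟨r ^ 2 ^ k, pow_mem hr _, ?_⟩
      rw [orderOf_pow' _ (by positivity), hk, Nat.gcd_eq_right (pow_dvd_pow 2 (Nat.le_succ k)),
        pow_succ, Nat.mul_div_cancel_left _ (by positivity)]
  have ht1 : t ≠ 1 := fun h => by simp [h] at ht
  rcases exists_inverted_or_mem_two_core ht with ⟨N, hN, hN2, htN⟩ | ⟨c, hc1, hco, hct⟩
  · -- the centre of `S` would be invariant
    obtain ⟨Q, hQ⟩ := hN2.exists_le_sylow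
    have hNR : N ≤ (R' : Subgroup Γ) := by
      obtain ⟨σ, hσ⟩ := MulAction.exists_smul_eq Γ Q R'
      intro n hn
      rw [← hσ, Sylow.coe_subgroup_smul, Subgroup.mem_pointwise_smul_iff_inv_smul_mem]
      refine hQ ?_
      have h5 := hN.conj_mem n hn σ⁻¹
      simpa [MulAut.smul_def] using h5
    set σ : Γ := ρ.rangeRestrict ⟨α, hα⟩ with hσ
    set y' : A := ⟨y, hyc⟩ with hy'
    have hσy : (((σ : MulAut A) y' : P) : Ω) ∈ centralizerIn S S := hαy
    have htconj := hZfix _ (hNR (hN.conj_mem t htN σ)) _ hσy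
    have hty : (t : MulAut A) y' = y' := by
      apply (σ : MulAut A).injective
      conv_rhs => rw [← htconj]
      simp
    exact hyZ (hfixZ t htR ht1 y' hty)
  · obtain ⟨g, hg, hgn, hv⟩ := hR' t htR
    have htt : ∀ a : A, (t : MulAut A) ((t : MulAut A) a) = a := by
      intro a
      have h2 : t * t = 1 := by rw [← pow_two, ← ht]; exact pow_orderOf_eq_one t
      exact DFunLike.congr_fun (congrArg Subtype.val h2) a
    have hA2 : IsPGroup 2 A := IsPGroup.to_subgroup (hS.to_le hPS.le) A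
    have hcodd : Odd (orderOf (c : MulAut A)) := by rwa [Subgroup.orderOf_coe]
    refine hc1 (Subtype.ext ?_)
    show (c : MulAut A) = 1
    refine @eq_one_of_norm_sq A _ (t : MulAut A) (c : MulAut A) _ hA2 hcodd htt (fun a => ?_) fun a => ?_
    · have h3 := DFunLike.congr_fun (congrArg Subtype.val hct) ((t : MulAut A) a)
      simp only [Subgroup.coe_mul, Subgroup.coe_inv, MulAut.mul_apply,
        MulAut.inv_apply_self] at h3
      rw [h3]
      rfl
    · set n : A := a * (t : MulAut A) a with hn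
      have htn : (t : MulAut A) n = n := by rw [hn, map_mul, htt, mul_comm]
      have hnZ := hfixZ t htR ht1 n htn
      set a' : Ω := ((a : P) : Ω) with ha'
      have hgg : g * g * a' = a' * (g * g) := by
        have h4 := hv ((t : MulAut A) a)
        rw [htt, hv a] at h4
        calc g * g * a' = g * (g * a' * g⁻¹) * g⁻¹ * (g * g) := by group
          _ = a' * (g * g) := by rw [← h4]
      have hnv : (g * g)⁻¹ * (g * a' * (g * a')) = ((n : P) : Ω) := by
        have h5 : g⁻¹ * a' * g = g * a' * g⁻¹ := by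
          calc g⁻¹ * a' * g = g⁻¹ * (a' * (g * g)) * g⁻¹ := by group
            _ = g⁻¹ * (g * g * a') * g⁻¹ := by rw [hgg]
            _ = g * a' * g⁻¹ := by group
        rw [show (g * g)⁻¹ * (g * a' * (g * a')) = g⁻¹ * a' * g * a' by group, h5, hn,
          mul_comm a ((t : MulAut A) a)]
        show _ = (((t : MulAut A) a : P) : Ω) * a'
        rw [hv]
      obtain ⟨u, hu, hue⟩ := exists_central_sqrt_norm hS hF h hg (hPS.le (a : P).2) hgg
        (by rw [hnv]; exact hnZ)
      have huA : (⟨u, hZP hu⟩ : P) ∈ A := Subgroup.mem_center_iff.2 fun w =>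
        Subtype.ext ((mem_central.1 hu).2 _ (hPS.le w.2))
      refine ⟨⟨⟨u, hZP hu⟩, huA⟩, hZfix t htR _ hu, ?_⟩
      show n = _
      apply Subtype.ext
      apply Subtype.ext
      rw [← hnv, hue]
      rfl

/-! ### Groups -/

theorem sylow_two_commutative {G : Type*} [Group G] [Finite G]
    (h : ∀ x : G, (∃ k : ℕ, orderOf x = 2 ^ k) →
      ∃ Q : Sylow 2 G, (Q : Subgroup G) ≤ Subgroup.centralizer ({x} : Set G))
    (P : Sylow 2 G) : IsMulCommutative (P : Subgroup G) := by
  refine isMulCommutative_of_centralConj P.isPGroup' (isSaturated_group P) fun x hx => ?_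
  obtain ⟨k, hk⟩ := IsPGroup.iff_orderOf.1 P.isPGroup' ⟨x, hx⟩
  rw [← Subgroup.orderOf_coe] at hk
  obtain ⟨Q, hQ⟩ := h x ⟨k, hk⟩
  have hxQ : x ∈ (Q : Subgroup G) := by
    have hcn : Subgroup.zpowers x ≤ Subgroup.normalizer ((Q : Subgroup G) : Set G) := by
      rw [Subgroup.zpowers_le]
      refine Subgroup.mem_normalizer_fintype fun q hq => ?_
      rw [show x * q * x⁻¹ = q by
        rw [← Subgroup.mem_centralizer_singleton_iff.1 (hQ hq)]; group]
      exact hq
    have h2 : IsPGroup 2 ↥(Subgroup.zpowers x ⊔ (Q : Subgroup G)) :=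
      (IsPGroup.of_card (n := k) (by rw [Nat.card_zpowers, hk])).to_sup_of_normal_right'
        Q.isPGroup' hcn
    rw [← Q.is_maximal' h2 le_sup_right]
    exact Subgroup.mem_sup_left (Subgroup.mem_zpowers x)
  obtain ⟨g, hg⟩ := MulAction.exists_smul_eq G Q P
  have hconj : ∀ q ∈ (Q : Subgroup G), g * q * g⁻¹ ∈ (P : Subgroup G) := by
    intro q hq
    rw [← hg, Sylow.coe_subgroup_smul, Subgroup.mem_pointwise_smul_iff_inv_smul_mem]
    simpa [MulAut.smul_def, mul_assoc] using hq
  refine ⟨g * x * g⁻¹, mem_central.2 ⟨hconj x hxQ, fun p hp => ?_⟩,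
    conjHom (Subgroup.zpowers x) g, ⟨Subgroup.zpowers_le.2 hx, fun y => ?_, g, fun y => rfl⟩, rfl⟩
  · have hq : g⁻¹ * p * g ∈ (Q : Subgroup G) := by
      rw [← hg, Sylow.coe_subgroup_smul, Subgroup.mem_pointwise_smul_iff_inv_smul_mem] at hp
      simpa [MulAut.smul_def, mul_assoc] using hp
    have hc : g⁻¹ * p * g * x = x * (g⁻¹ * p * g) := Subgroup.mem_centralizer_singleton_iff.1 (hQ hq)
    calc p * (g * x * g⁻¹) = g * (g⁻¹ * p * g * x) * g⁻¹ := by group
      _ = g * (x * (g⁻¹ * p * g)) * g⁻¹ := by rw [hc]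
      _ = g * x * g⁻¹ * p := by group
  · exact hconj _ ((Subgroup.zpowers_le.2 hxQ) y.2)

end CfsgLib.CaminaHerzog
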